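import Groth.Agent.RD97.Horseshoe
import Groth.Agent.DeltaF50.Universal
import Mathlib.CategoryTheory.Abelian.RightDerived

/-! The long exact sequence of right derived functors. -/

set_option autoImplicit false
universe v u v' u'

noncomputable section

open CategoryTheory CategoryTheory.Limits

namespace Groth.Agent.RD97

variable {C : Type u} [Category.{v} C] [Abelian C] [HasInjectiveResolutions C]
  {D : Type u'} [Category.{v'} D] [Abelian D] (F : C ⥤ D) [F.Additive]

theorem delta_natural {S S' : ShortComplex C} (T : RDer.SESRes S) (T' : RDer.SESRes S') (φ : S ⟶ S')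
    (n₀ n₁ : ℕ) (h : n₀ + 1 = n₁) :
    (F.rightDerived n₀).map φ.τ₃ ≫ T'.delta F n₀ n₁ h = T.delta F n₀ n₁ h ≫ (F.rightDerived n₁).map φ.τ₁ := by
  obtain ⟨ψ, h1, -, h3⟩ := exists_lift T T' φ
  have hnat := HomologicalComplex.HomologySequence.δ_naturality
    ((F.mapHomologicalComplex (ComplexShape.up ℕ)).mapShortComplex.map ψ) (T.map_shortExact F) (T'.map_shortExact F) n₀ n₁ h
  have e3 := InjectiveResolution.isoRightDerivedObj_hom_naturality φ.τ₃ T.I₃ T'.I₃ ψ.τ₃ h3 F n₀
  have e1 := InjectiveResolution.isoRightDerivedObj_inv_naturality φ.τ₁ T.I₁ T'.I₁ ψ.τ₁ h1 F n₁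
  show (F.rightDerived n₀).map φ.τ₃ ≫ (T'.I₃.isoRightDerivedObj F n₀).hom ≫ (T'.map_shortExact F).δ n₀ n₁ h ≫ (T'.I₁.isoRightDerivedObj F n₁).inv =
    ((T.I₃.isoRightDerivedObj F n₀).hom ≫ (T.map_shortExact F).δ n₀ n₁ h ≫ (T.I₁.isoRightDerivedObj F n₁).inv) ≫ (F.rightDerived n₁).map φ.τ₁
  rw [reassoc_of% e3]
  simp only [Category.assoc]
  congr 1
  erw [e1]
  refine Eq.trans ?_ (Category.assoc _ _ _)
  refine Eq.trans (Category.assoc _ _ _).symm ?_
  congr 1
  exact hnat.symm

theorem delta_eq {S : ShortComplex C} (T T' : RDer.SESRes S) (n₀ n₁ : ℕ) (h : n₀ + 1 = n₁) :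
    T.delta F n₀ n₁ h = T'.delta F n₀ n₁ h := by
  have := delta_natural F T T' (𝟙 S) n₀ n₁ h
  rw [ShortComplex.id_τ₃, ShortComplex.id_τ₁, CategoryTheory.Functor.map_id, CategoryTheory.Functor.map_id,
    Category.id_comp, Category.comp_id] at this
  exact this.symm

/-- a chosen resolution of a short exact sequence -/
def res (S : ShortComplex C) (hS : S.ShortExact) : RDer.SESRes S :=
  (exists_sesRes S hS (injectiveResolution S.X₁) (injectiveResolution S.X₃)).some

section

variable {S : ShortComplex C} (T : RDer.SESRes S) (n : ℕ)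

theorem nat_f : (F.rightDerived n).map S.f ≫ (T.I₂.isoRightDerivedObj F n).hom =
    (T.I₁.isoRightDerivedObj F n).hom ≫ HomologicalComplex.homologyMap (T.cx.map (F.mapHomologicalComplex _)).f n :=
  InjectiveResolution.isoRightDerivedObj_hom_naturality S.f T.I₁ T.I₂ T.f (comp_ι_zero T.ι_f) F n

theorem nat_g : (F.rightDerived n).map S.g ≫ (T.I₃.isoRightDerivedObj F n).hom =
    (T.I₂.isoRightDerivedObj F n).hom ≫ HomologicalComplex.homologyMap (T.cx.map (F.mapHomologicalComplex _)).g n :=
  InjectiveResolution.isoRightDerivedObj_hom_naturality S.g T.I₂ T.I₃ T.g (comp_ι_zero T.ι_g) F n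

theorem nat_δ (n₁ : ℕ) (h : n + 1 = n₁) : T.delta F n n₁ h ≫ (T.I₁.isoRightDerivedObj F n₁).hom =
    (T.I₃.isoRightDerivedObj F n).hom ≫ (T.map_shortExact F).δ n n₁ h :=
  T.delta_comp_isoRightDerivedObj_hom F n n₁ h

theorem comp_delta (n₁ : ℕ) (h : n + 1 = n₁) : (F.rightDerived n).map S.g ≫ T.delta F n n₁ h = 0 := by
  rw [← cancel_mono (T.I₁.isoRightDerivedObj F n₁).hom, zero_comp, Category.assoc, nat_δ]
  refine (Category.assoc _ _ _).symm.trans ((congrArg (· ≫ _) (nat_g F T n)).trans ((Category.assoc _ _ _).trans ?_))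
  exact (congrArg (_ ≫ ·) ((T.map_shortExact F).comp_δ n n₁ h)).trans comp_zero

theorem delta_comp (n₁ : ℕ) (h : n + 1 = n₁) : T.delta F n n₁ h ≫ (F.rightDerived n₁).map S.f = 0 := by
  rw [← cancel_mono (T.I₂.isoRightDerivedObj F n₁).hom, zero_comp, Category.assoc, nat_f]
  refine (Category.assoc _ _ _).symm.trans ((congrArg (· ≫ _) (nat_δ F T n n₁ h)).trans ((Category.assoc _ _ _).trans ?_))
  exact (congrArg (_ ≫ ·) ((T.map_shortExact F).δ_comp n n₁ h)).trans comp_zero

end

theorem nonempty_derivedLES : Nonempty (RDer.DerivedLES F) :=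
  ⟨{  δ := fun S hS n₀ n₁ h => (res S hS).delta F n₀ n₁ h
      δ_eq := fun S hS T n₀ n₁ h => delta_eq F _ T n₀ n₁ h
      δ_natural := fun hS hS' φ n₀ n₁ h => delta_natural F _ _ φ n₀ n₁ h
      exact₂ := fun S hS n => ShortComplex.exact_of_iso
        (ShortComplex.isoMk ((res S hS).I₁.isoRightDerivedObj F n).symm ((res S hS).I₂.isoRightDerivedObj F n).symm
          ((res S hS).I₃.isoRightDerivedObj F n).symm
          (by
            rw [← cancel_mono ((res S hS).I₂.isoRightDerivedObj F n).hom, Category.assoc, Category.assoc]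
            erw [nat_f F (res S hS) n, Iso.inv_hom_id_assoc, Iso.inv_hom_id, Category.comp_id])
          (by
            rw [← cancel_mono ((res S hS).I₃.isoRightDerivedObj F n).hom, Category.assoc, Category.assoc]
            erw [nat_g F (res S hS) n, Iso.inv_hom_id_assoc, Iso.inv_hom_id, Category.comp_id]))
        (((res S hS).map_shortExact F).homology_exact₂ n)
      comp_δ := fun S hS n₀ n₁ h => comp_delta F _ n₀ n₁ h
      exact₃ := fun S hS n₀ n₁ h => ShortComplex.exact_of_iso
        (ShortComplex.isoMk ((res S hS).I₂.isoRightDerivedObj F n₀).symm ((res S hS).I₃.isoRightDerivedObj F n₀).symm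
          ((res S hS).I₁.isoRightDerivedObj F n₁).symm
          (by
            rw [← cancel_mono ((res S hS).I₃.isoRightDerivedObj F n₀).hom, Category.assoc, Category.assoc]
            erw [nat_g F (res S hS) n₀, Iso.inv_hom_id_assoc, Iso.inv_hom_id, Category.comp_id])
          (by
            rw [← cancel_mono ((res S hS).I₁.isoRightDerivedObj F n₁).hom, Category.assoc, Category.assoc]
            erw [nat_δ F (res S hS) n₀ n₁ h, Iso.inv_hom_id_assoc, Iso.inv_hom_id, Category.comp_id]))
        (((res S hS).map_shortExact F).homology_exact₃ n₀ n₁ h)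
      δ_comp := fun S hS n₀ n₁ h => delta_comp F _ n₀ n₁ h
      exact₁ := fun S hS n₀ n₁ h => ShortComplex.exact_of_iso
        (ShortComplex.isoMk ((res S hS).I₃.isoRightDerivedObj F n₀).symm ((res S hS).I₁.isoRightDerivedObj F n₁).symm
          ((res S hS).I₂.isoRightDerivedObj F n₁).symm
          (by
            rw [← cancel_mono ((res S hS).I₁.isoRightDerivedObj F n₁).hom, Category.assoc, Category.assoc]
            erw [nat_δ F (res S hS) n₀ n₁ h, Iso.inv_hom_id_assoc, Iso.inv_hom_id, Category.comp_id])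
          (by
            rw [← cancel_mono ((res S hS).I₂.isoRightDerivedObj F n₁).hom, Category.assoc, Category.assoc]
            erw [nat_f F (res S hS) n₁, Iso.inv_hom_id_assoc, Iso.inv_hom_id, Category.comp_id]))
        (((res S hS).map_shortExact F).homology_exact₁ n₀ n₁ h) }⟩

theorem isUniversal (Δ : RDer.DerivedLES F) : Δ.toCohDeltaFunctor.IsUniversal := by
  refine DeltaF50.isUniversal_of_isEffaceable fun n X => ?_
  let I := injectiveResolution X
  exact ⟨I.cocomplex.X 0, aug I, inferInstance,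
    (F.isZero_rightDerived_obj_injective_succ n _).eq_of_tgt _ _⟩

end Groth.Agent.RD97
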