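import Groth.Agent.RD97.Lift
import Mathlib.Algebra.Homology.HomologySequenceLemmas
import Mathlib.CategoryTheory.Abelian.Injective.Resolution

/-! The horseshoe lemma. -/

set_option autoImplicit false
universe v u

noncomputable section

open CategoryTheory CategoryTheory.Limits

namespace Groth.Agent.RD97

variable {C : Type u} [Category.{v} C] [Abelian C]

/-- the complex `I ⊕ J` twisted by `θ` -/
def twist (I J : CochainComplex C ℕ) (θ : ∀ n, J.X n ⟶ I.X (n + 1))
    (hθ : ∀ n, θ n ≫ I.d (n + 1) (n + 2) + J.d n (n + 1) ≫ θ (n + 1) = 0) : CochainComplex C ℕ :=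
  CochainComplex.of (fun n => I.X n ⊞ J.X n)
    (fun n => biprod.lift (biprod.fst ≫ I.d n (n + 1) + biprod.snd ≫ θ n) (biprod.snd ≫ J.d n (n + 1)))
    (fun n => by
      apply biprod.hom_ext
      · simp only [Category.assoc, biprod.lift_fst, Preadditive.comp_add, biprod.lift_fst_assoc, biprod.lift_snd_assoc,
          Preadditive.add_comp, zero_comp, HomologicalComplex.d_comp_d, comp_zero, zero_add]
        rw [← Preadditive.comp_add, hθ n, comp_zero]
      · simp)

variable (I J : CochainComplex C ℕ) (θ : ∀ n, J.X n ⟶ I.X (n + 1))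
  (hθ : ∀ n, θ n ≫ I.d (n + 1) (n + 2) + J.d n (n + 1) ≫ θ (n + 1) = 0)

theorem twist_d (n : ℕ) : (twist I J θ hθ).d n (n + 1) =
    biprod.lift (biprod.fst ≫ I.d n (n + 1) + biprod.snd ≫ θ n) (biprod.snd ≫ J.d n (n + 1)) := by
  simp [twist]

def twistInl : I ⟶ twist I J θ hθ where
  f n := (biprod.inl : I.X n ⟶ I.X n ⊞ J.X n)
  comm' i j := by
    rintro (rfl : i + 1 = j)
    rw [twist_d]
    show biprod.inl ≫ biprod.lift _ _ = I.d i (i + 1) ≫ biprod.inl
    apply biprod.hom_ext <;> simp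

def twistSnd : twist I J θ hθ ⟶ J where
  f n := (biprod.snd : I.X n ⊞ J.X n ⟶ J.X n)
  comm' i j := by
    rintro (rfl : i + 1 = j)
    rw [twist_d]
    exact (biprod.lift_snd _ _).symm

theorem twistInl_snd : twistInl I J θ hθ ≫ twistSnd I J θ hθ = 0 :=
  HomologicalComplex.Hom.ext (funext fun _ => biprod.inl_snd)

theorem twist_shortExact : (ShortComplex.mk _ _ (twistInl_snd I J θ hθ)).ShortExact := by
  apply HomologicalComplex.shortExact_of_degreewise_shortExact
  intro n
  exact (ShortComplex.Splitting.ofHasBinaryBiproduct (I.X n) (J.X n)).shortExact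

theorem exists_theta {X₁ X₃ : C} (I₁ : InjectiveResolution X₁) (I₃ : InjectiveResolution X₃)
    (θ₀ : I₃.cocomplex.X 0 ⟶ I₁.cocomplex.X 1) (h₀ : aug I₃ ≫ θ₀ ≫ I₁.cocomplex.d 1 2 = 0) :
    ∃ θ : ∀ n, I₃.cocomplex.X n ⟶ I₁.cocomplex.X (n + 1), θ 0 = θ₀ ∧
      ∀ n, θ n ≫ I₁.cocomplex.d (n + 1) (n + 2) + I₃.cocomplex.d n (n + 1) ≫ θ (n + 1) = 0 := by
  let Q := fun n => {x : I₃.cocomplex.X n ⟶ I₁.cocomplex.X (n + 1) //
    kernel.ι (I₃.cocomplex.d n (n + 1)) ≫ x ≫ I₁.cocomplex.d (n + 1) (n + 2) = 0}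
  choose next hnext using fun n (q : Q n) => exists_ext (I₃.cocomplex.d n (n + 1))
    (-(q.1 ≫ I₁.cocomplex.d (n + 1) (n + 2))) (by rw [Preadditive.comp_neg, q.2, neg_zero])
  let q : ∀ n, Q n := Nat.rec ⟨θ₀, kernel_comp_eq_zero₀ _ _ h₀⟩ fun n q =>
    ⟨next n q, kernel_comp_eq_zero _ n _ (by
      rw [reassoc_of% (hnext n q), Preadditive.neg_comp, Category.assoc, HomologicalComplex.d_comp_d, comp_zero,
        neg_zero])⟩
  exact ⟨fun n => (q n).1, rfl, fun n => by
    show _ + I₃.cocomplex.d n (n + 1) ≫ next n (q n) = 0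
    rw [hnext n (q n)]; abel⟩

theorem exists_sesRes (S : ShortComplex C) (hS : S.ShortExact) (I₁ : InjectiveResolution S.X₁)
    (I₃ : InjectiveResolution S.X₃) : Nonempty (RDer.SESRes S) := by
  have := hS.mono_f
  have := hS.epi_g
  let u := Injective.factorThru (aug I₁) S.f
  have hu : S.f ≫ u = aug I₁ := Injective.comp_factorThru _ _
  let w : S.X₃ ⟶ I₁.cocomplex.X 1 := hS.exact.gIsCokernel.desc (CokernelCofork.ofπ (u ≫ I₁.cocomplex.d 0 1) (by rw [reassoc_of% hu, aug_d]))
  have hw : S.g ≫ w = u ≫ I₁.cocomplex.d 0 1 := hS.exact.gIsCokernel.fac _ WalkingParallelPair.one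
  let θ₀ := -Injective.factorThru w (aug I₃)
  have hθ₀ : aug I₃ ≫ θ₀ = -w := by simp only [θ₀, Preadditive.comp_neg, Injective.comp_factorThru]
  obtain ⟨θ, h0, hθ⟩ := exists_theta I₁ I₃ θ₀ (by
    rw [reassoc_of% hθ₀, ← cancel_epi S.g, Preadditive.neg_comp, Preadditive.comp_neg, reassoc_of% hw,
      HomologicalComplex.d_comp_d, comp_zero, neg_zero, comp_zero])
  let K := twist I₁.cocomplex I₃.cocomplex θ hθ
  let e : S.X₂ ⟶ I₁.cocomplex.X 0 ⊞ I₃.cocomplex.X 0 := biprod.lift u (S.g ≫ aug I₃)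
  have he : e ≫ biprod.lift (biprod.fst ≫ I₁.cocomplex.d 0 1 + biprod.snd ≫ θ 0)
      (biprod.snd ≫ I₃.cocomplex.d 0 1) = 0 := by
    apply biprod.hom_ext
    · simp only [e, Category.assoc, biprod.lift_fst, Preadditive.comp_add, biprod.lift_fst_assoc, biprod.lift_snd_assoc,
        zero_comp]
      rw [h0, hθ₀, Preadditive.comp_neg, hw, add_neg_cancel]
    · simp [e]
  have heK : e ≫ K.d 0 1 = 0 := by rw [twist_d]; exact he
  let ι₂ : (CochainComplex.single₀ C).obj S.X₂ ⟶ K := (CochainComplex.fromSingle₀Equiv K S.X₂).symm ⟨e, heK⟩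
  have hι₂ : ι₂.f 0 = e := by simp [ι₂]
  have hmono : Mono e := by
    refine Preadditive.mono_of_cancel_zero _ fun {A} x hx => ?_
    have h1 := hx =≫ biprod.fst
    have h2 := hx =≫ biprod.snd
    simp only [e, Category.assoc, biprod.lift_fst, biprod.lift_snd, zero_comp] at h1 h2
    rw [← Category.assoc] at h2
    have h3 := zero_of_comp_mono _ h2
    have h4 := hS.exact.lift_f x h3
    rw [← h4, Category.assoc, hu] at h1
    rw [← h4, zero_of_comp_mono _ h1, zero_comp]
  have hex : (ShortComplex.mk e _ he).Exact := by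
    rw [ShortComplex.exact_iff_exact_up_to_refinements]
    intro A x hx
    change A ⟶ I₁.cocomplex.X 0 ⊞ I₃.cocomplex.X 0 at x
    have hx1 := hx =≫ biprod.fst
    have hx2 := hx =≫ biprod.snd
    simp only [Category.assoc, biprod.lift_fst, biprod.lift_snd, zero_comp] at hx1 hx2
    obtain ⟨A₁, π₁, _, z, hz⟩ := (exact_aug I₃).exact_up_to_refinements (x ≫ biprod.snd) (by simpa using hx2)
    change A₁ ⟶ S.X₃ at z
    change π₁ ≫ x ≫ biprod.snd = z ≫ aug I₃ at hz
    obtain ⟨A₂, π₂, _, v, hv⟩ := surjective_up_to_refinements_of_epi S.g z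
    let x' := π₂ ≫ π₁ ≫ x - v ≫ e
    have hs : x' ≫ biprod.snd = 0 := by
      simp only [x', e, Preadditive.sub_comp, Category.assoc, biprod.lift_snd]
      rw [hz, reassoc_of% hv, sub_self]
    have hd : (x' ≫ biprod.fst) ≫ I₁.cocomplex.d 0 1 = 0 := by
      have h1 : x' ≫ (biprod.fst ≫ I₁.cocomplex.d 0 1 + biprod.snd ≫ θ 0) = 0 := by
        have he1 := he =≫ biprod.fst
        simp only [Category.assoc, biprod.lift_fst, zero_comp] at he1
        simp only [x', Preadditive.sub_comp, Category.assoc, hx1, he1, comp_zero, sub_zero]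
      rwa [Preadditive.comp_add, reassoc_of% hs, zero_comp, add_zero, ← Category.assoc] at h1
    obtain ⟨A₃, π₃, _, y, hy⟩ := (exact_aug I₁).exact_up_to_refinements (x' ≫ biprod.fst) hd
    change A₃ ⟶ S.X₁ at y
    change π₃ ≫ x' ≫ biprod.fst = y ≫ aug I₁ at hy
    refine ⟨A₃, π₃ ≫ π₂ ≫ π₁, inferInstance, π₃ ≫ v + y ≫ S.f, ?_⟩
    have key : π₃ ≫ x' = y ≫ S.f ≫ e := by
      apply biprod.hom_ext
      · simp [e, hu, hy]
      · simp [e, hs, S.zero_assoc]
    simp only [x', Preadditive.comp_sub, sub_eq_iff_eq_add] at key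
    simp only [Category.assoc, Preadditive.add_comp]
    rw [key, add_comm]
  have hq : QuasiIso ι₂ := by
    refine ⟨fun n => ?_⟩
    rcases n with _ | n
    · rw [quasiIsoAt_iff' _ 0 0 1 (by simp) (by simp), ShortComplex.quasiIso_iff_of_zeros]
      rotate_left
      · rfl
      · rfl
      · exact K.shape 0 0 (by simp)
      refine ⟨?_, ?_⟩
      · refine ShortComplex.exact_of_iso (S₁ := ShortComplex.mk e _ he)
          (ShortComplex.isoMk (Iso.refl _) (Iso.refl _) (Iso.refl _) ?_ ?_) hex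
        · refine (Category.id_comp _).trans (Eq.trans ?_ (Category.comp_id _).symm)
          exact hι₂
        · refine (Category.id_comp _).trans (Eq.trans ?_ (Category.comp_id _).symm)
          exact twist_d _ _ θ hθ 0
      · show Mono (ι₂.f 0)
        rw [hι₂]; exact hmono
    · rw [quasiIsoAt_iff_exactAt ι₂ (n + 1) (CochainComplex.exactAt_succ_single_obj _ _)]
      exact CategoryTheory.ShortComplex.ShortExact.exactAt_X₂ (twist_shortExact _ _ θ hθ) (n + 1)
        (I₁.cocomplex_exactAt_succ n) (I₃.cocomplex_exactAt_succ n)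
  refine ⟨⟨I₁, { cocomplex := K, ι := ι₂, injective := fun n =>
      (inferInstance : Injective (I₁.cocomplex.X n ⊞ I₃.cocomplex.X n)) }, I₃,
    twistInl _ _ θ hθ, twistSnd _ _ θ hθ, twistInl_snd _ _ θ hθ, ?_, ?_, twist_shortExact _ _ θ hθ⟩⟩
  · apply HomologicalComplex.from_single_hom_ext
    simp only [HomologicalComplex.comp_f]
    erw [single_map_zero S.f, hι₂]
    apply biprod.hom_ext
    · erw [Category.assoc, biprod.inl_fst, Category.comp_id, Category.assoc, biprod.lift_fst, hu]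
      rfl
    · erw [Category.assoc, biprod.inl_snd, comp_zero, Category.assoc, biprod.lift_snd, S.zero_assoc, zero_comp]
      rfl
  · apply HomologicalComplex.from_single_hom_ext
    simp only [HomologicalComplex.comp_f]
    erw [single_map_zero S.g, hι₂, biprod.lift_snd]
    rfl

end Groth.Agent.RD97
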