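import Groth.Prelude.Def_RDerDelta
import Mathlib.CategoryTheory.Abelian.Refinements

/-! Lifting a morphism of short complexes to given injective resolutions of them; horseshoe. -/

set_option autoImplicit false
universe v u

noncomputable section

open CategoryTheory CategoryTheory.Limits

namespace Groth.Agent.RD97

variable {C : Type u} [Category.{v} C] [Abelian C]

/-- the augmentation of a resolution -/
def aug {X : C} (I : InjectiveResolution X) : X ⟶ I.cocomplex.X 0 := I.ι.f 0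

instance mono_aug {X : C} (I : InjectiveResolution X) : Mono (aug I) := inferInstanceAs (Mono (I.ι.f 0))

@[reassoc (attr := simp)]
theorem aug_d {X : C} (I : InjectiveResolution X) : aug I ≫ I.cocomplex.d 0 1 = 0 := I.ι_f_zero_comp_complex_d

theorem exact_aug {X : C} (I : InjectiveResolution X) : (ShortComplex.mk _ _ (aug_d I)).Exact := I.exact₀

theorem exists_ext {X Y Z : C} [Injective Z] (d : X ⟶ Y) (e : X ⟶ Z) (h : kernel.ι d ≫ e = 0) :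
    ∃ c : Y ⟶ Z, d ≫ c = e :=
  ⟨(ShortComplex.exact_kernel d).descToInjective e h, (ShortComplex.exact_kernel d).comp_descToInjective e h⟩

theorem single_map_zero {X Y : C} (f : X ⟶ Y) : ((CochainComplex.single₀ C).map f).f 0 = f := by simp

theorem comp_ι_zero {X Y : C} {f : X ⟶ Y} {I : InjectiveResolution X} {J : InjectiveResolution Y}
    {φ : I.cocomplex ⟶ J.cocomplex} (h : I.ι ≫ φ = (CochainComplex.single₀ C).map f ≫ J.ι) :
    aug I ≫ φ.f 0 = f ≫ aug J := by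
  have := congrArg (fun k => HomologicalComplex.Hom.f k 0) h
  simp only [HomologicalComplex.comp_f] at this
  erw [single_map_zero] at this
  exact this

/-- the kernel of a differential in positive degree dies on what kills the previous one -/
theorem kernel_comp_eq_zero {X : C} (I : InjectiveResolution X) (n : ℕ) {Z : C} (e : I.cocomplex.X (n + 1) ⟶ Z)
    (h : I.cocomplex.d n (n + 1) ≫ e = 0) : kernel.ι (I.cocomplex.d (n + 1) (n + 2)) ≫ e = 0 := by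
  obtain ⟨A, π, hπ, y, hy⟩ :=
    (I.exact_succ n).exact_up_to_refinements (kernel.ι (I.cocomplex.d (n + 1) (n + 2))) (kernel.condition _)
  dsimp at y hy
  rw [← cancel_epi π, reassoc_of% hy, h, comp_zero, comp_zero]

theorem kernel_comp_eq_zero₀ {X : C} (I : InjectiveResolution X) {Z : C} (e : I.cocomplex.X 0 ⟶ Z)
    (h : aug I ≫ e = 0) : kernel.ι (I.cocomplex.d 0 1) ≫ e = 0 := by
  obtain ⟨A, π, hπ, y, hy⟩ := (exact_aug I).exact_up_to_refinements (kernel.ι (I.cocomplex.d 0 1)) (kernel.condition _)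
  dsimp at y hy
  rw [← cancel_epi π, reassoc_of% hy, h, comp_zero, comp_zero]

section

variable {S S' : ShortComplex C} (T : RDer.SESRes S) (T' : RDer.SESRes S') (φ : S ⟶ S')
  (a₃ : T.I₃.cocomplex ⟶ T'.I₃.cocomplex)

theorem split_id (n : ℕ) : ∃ (r : T'.I₂.cocomplex.X n ⟶ T'.I₁.cocomplex.X n)
    (s : T'.I₃.cocomplex.X n ⟶ T'.I₂.cocomplex.X n),
    r ≫ T'.f.f n + T'.g.f n ≫ s = 𝟙 _ ∧ s ≫ T'.g.f n = 𝟙 _ :=
  ⟨(T'.splitting n).r, (T'.splitting n).s, (T'.splitting n).id, (T'.splitting n).s_g⟩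

@[reassoc]
theorem f_comp_g (n : ℕ) : T'.f.f n ≫ T'.g.f n = 0 := by
  rw [← HomologicalComplex.comp_f, T'.zero]; rfl

theorem exists_step (n : ℕ) (a : T.I₂.cocomplex.X n ⟶ T'.I₂.cocomplex.X n)
    (hg : a ≫ T'.g.f n = T.g.f n ≫ a₃.f n)
    (hk : kernel.ι (T.I₂.cocomplex.d n (n + 1)) ≫ a ≫ T'.I₂.cocomplex.d n (n + 1) = 0) :
    ∃ a' : T.I₂.cocomplex.X (n + 1) ⟶ T'.I₂.cocomplex.X (n + 1),
      a' ≫ T'.g.f (n + 1) = T.g.f (n + 1) ≫ a₃.f (n + 1) ∧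
      T.I₂.cocomplex.d n (n + 1) ≫ a' = a ≫ T'.I₂.cocomplex.d n (n + 1) := by
  obtain ⟨r, s, hid, hs⟩ := split_id T' (n + 1)
  obtain ⟨c, hc⟩ := exists_ext (T.I₂.cocomplex.d n (n + 1))
    ((a ≫ T'.I₂.cocomplex.d n (n + 1) - T.I₂.cocomplex.d n (n + 1) ≫ T.g.f (n + 1) ≫ a₃.f (n + 1) ≫ s) ≫ r) (by
      rw [Preadditive.sub_comp, Preadditive.comp_sub, Category.assoc a, reassoc_of% hk, Category.assoc (T.I₂.cocomplex.d n (n + 1)),
        kernel.condition_assoc, zero_comp, zero_comp, sub_zero])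
  refine ⟨T.g.f (n + 1) ≫ a₃.f (n + 1) ≫ s + c ≫ T'.f.f (n + 1), ?_, ?_⟩
  · simp [hs, f_comp_g]
  · rw [Preadditive.comp_add, reassoc_of% hc]
    have hr : r ≫ T'.f.f (n + 1) = 𝟙 _ - T'.g.f (n + 1) ≫ s := by rw [← hid]; abel
    have h0 : (a ≫ T'.I₂.cocomplex.d n (n + 1) - T.I₂.cocomplex.d n (n + 1) ≫ T.g.f (n + 1) ≫ a₃.f (n + 1) ≫ s) ≫
        T'.g.f (n + 1) = 0 := by
      simp only [Preadditive.sub_comp, Category.assoc, hs, Category.comp_id]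
      rw [← HomologicalComplex.Hom.comm T'.g, reassoc_of% hg, HomologicalComplex.Hom.comm a₃,
        ← HomologicalComplex.Hom.comm_assoc T.g, sub_self]
    rw [hr, Preadditive.comp_sub, Category.comp_id, reassoc_of% h0, zero_comp, sub_zero]
    abel

theorem exists_zero (h₃ : aug T.I₃ ≫ a₃.f 0 = φ.τ₃ ≫ aug T'.I₃) :
    ∃ a : T.I₂.cocomplex.X 0 ⟶ T'.I₂.cocomplex.X 0, a ≫ T'.g.f 0 = T.g.f 0 ≫ a₃.f 0 ∧
      aug T.I₂ ≫ a = φ.τ₂ ≫ aug T'.I₂ := by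
  obtain ⟨r, s, hid, hs⟩ := split_id T' 0
  let p := φ.τ₂ ≫ aug T'.I₂ - aug T.I₂ ≫ T.g.f 0 ≫ a₃.f 0 ≫ s
  have hp : p ≫ T'.g.f 0 = 0 := by
    simp only [p, Preadditive.sub_comp, Category.assoc, hs, Category.comp_id]
    rw [comp_ι_zero T'.ι_g, reassoc_of% (comp_ι_zero T.ι_g), h₃, φ.comm₂₃_assoc, sub_self]
  refine ⟨T.g.f 0 ≫ a₃.f 0 ≫ s + Injective.factorThru (p ≫ r) (aug T.I₂) ≫ T'.f.f 0, ?_, ?_⟩
  · simp [hs, f_comp_g]
  · rw [Preadditive.comp_add, ← Category.assoc (aug T.I₂) (Injective.factorThru _ _), Injective.comp_factorThru,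
      Category.assoc]
    have hr : r ≫ T'.f.f 0 = 𝟙 _ - T'.g.f 0 ≫ s := by rw [← hid]; abel
    rw [hr, Preadditive.comp_sub, Category.comp_id, reassoc_of% hp, zero_comp, sub_zero]
    simp only [p]
    abel

theorem exists_lift₂ (h₃ : aug T.I₃ ≫ a₃.f 0 = φ.τ₃ ≫ aug T'.I₃) :
    ∃ a₂ : T.I₂.cocomplex ⟶ T'.I₂.cocomplex, a₂ ≫ T'.g = T.g ≫ a₃ ∧
      aug T.I₂ ≫ a₂.f 0 = φ.τ₂ ≫ aug T'.I₂ := by
  let Q := fun (n : ℕ) => {a : T.I₂.cocomplex.X n ⟶ T'.I₂.cocomplex.X n //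
    a ≫ T'.g.f n = T.g.f n ≫ a₃.f n ∧ kernel.ι (T.I₂.cocomplex.d n (n + 1)) ≫ a ≫ T'.I₂.cocomplex.d n (n + 1) = 0}
  obtain ⟨a0, hg0, hι0⟩ := exists_zero T T' φ a₃ h₃
  choose next hnext1 hnext2 using fun n (q : Q n) => exists_step T T' a₃ n q.1 q.2.1 q.2.2
  have h0 : kernel.ι (T.I₂.cocomplex.d 0 1) ≫ a0 ≫ T'.I₂.cocomplex.d 0 1 = 0 :=
    kernel_comp_eq_zero₀ _ _ (by
      rw [reassoc_of% hι0, aug_d, comp_zero])
  let q : ∀ n, Q n := Nat.rec ⟨a0, hg0, h0⟩ fun n q => ⟨next n q, hnext1 n q,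
    kernel_comp_eq_zero _ n _ (by rw [reassoc_of% (hnext2 n q), HomologicalComplex.d_comp_d, comp_zero])⟩
  refine ⟨{ f := fun n => (q n).1, comm' := ?_ }, ?_, hι0⟩
  · rintro i j (rfl : i + 1 = j)
    exact (hnext2 i (q i)).symm
  · exact HomologicalComplex.Hom.ext (funext fun n => (q n).2.1)

theorem exists_lift :
    ∃ ψ : T.cx ⟶ T'.cx, aug T.I₁ ≫ ψ.τ₁.f 0 = φ.τ₁ ≫ aug T'.I₁ ∧
      aug T.I₂ ≫ ψ.τ₂.f 0 = φ.τ₂ ≫ aug T'.I₂ ∧ aug T.I₃ ≫ ψ.τ₃.f 0 = φ.τ₃ ≫ aug T'.I₃ := by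
  let a₃ := InjectiveResolution.desc φ.τ₃ T'.I₃ T.I₃
  have h₃ : aug T.I₃ ≫ a₃.f 0 = φ.τ₃ ≫ aug T'.I₃ :=
    comp_ι_zero (InjectiveResolution.desc_commutes φ.τ₃ T'.I₃ T.I₃)
  obtain ⟨a₂, h, h₂⟩ := exists_lift₂ T T' φ a₃ h₃
  have := T'.shortExact.mono_f
  have w : (T.f ≫ a₂) ≫ T'.g = 0 := by rw [Category.assoc, h, ← Category.assoc, T.zero, zero_comp]
  let a₁ := T'.shortExact.exact.lift (T.f ≫ a₂) w
  have h₁ : a₁ ≫ T'.f = T.f ≫ a₂ := T'.shortExact.exact.lift_f _ _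
  refine ⟨{ τ₁ := a₁, τ₂ := a₂, τ₃ := a₃, comm₁₂ := h₁, comm₂₃ := h }, ?_, h₂, h₃⟩
  have : Mono (T'.f.f 0) := by
    have := (T'.shortExact.map_of_exact (HomologicalComplex.eval C _ 0)).mono_f
    exact this
  have h₁' := congrArg (fun k => HomologicalComplex.Hom.f k 0) h₁
  simp only [HomologicalComplex.comp_f] at h₁'
  rw [← cancel_mono (T'.f.f 0), Category.assoc, h₁', reassoc_of% (comp_ι_zero T.ι_f), Category.assoc,
    comp_ι_zero T'.ι_f, h₂, φ.comm₁₂_assoc]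

end

end Groth.Agent.RD97
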